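import Groth.Agent.H7Lim.FPDescent.Glue
import Groth.Agent.H7Lim.Sections
import Mathlib.RingTheory.Extension.Presentation.Core

/-!
# Finitely presented schemes over a limit come from a stage
-/

set_option autoImplicit false
set_option linter.style.haveILetI false
set_option backward.isDefEq.respectTransparency false
set_option backward.defeqAttrib.useBackward true

universe u

open CategoryTheory Limits AlgebraicGeometry TopologicalSpace

namespace Groth.Agent.H7Lim.FPDescent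

/-- The tensor product of a model, as a square of spectra. -/
theorem isPullback_specModel {R₀ R B : Type u} [CommRing R₀] [CommRing R] [CommRing B] [Algebra R₀ R]
    [Algebra R B] [Algebra R₀ B] [IsScalarTower R₀ R B] {ι σ : Type} (P : Algebra.Presentation R B ι σ)
    [P.HasCoeffs R₀] :
    ∃ g : Spec (CommRingCat.of B) ⟶ Spec (CommRingCat.of (P.ModelOfHasCoeffs R₀)),
      IsPullback g (Spec.map (CommRingCat.ofHom (algebraMap R B)))
        (Spec.map (CommRingCat.ofHom (algebraMap R₀ (P.ModelOfHasCoeffs R₀))))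
        (Spec.map (CommRingCat.ofHom (algebraMap R₀ R))) := by
  let e := P.tensorModelOfHasCoeffsEquiv R₀
  refine ⟨Spec.map (CommRingCat.ofHom (e.toAlgHom.restrictScalars R₀ |>.comp
      (Algebra.TensorProduct.includeRight :
        P.ModelOfHasCoeffs R₀ →ₐ[R₀] TensorProduct R₀ R (P.ModelOfHasCoeffs R₀))).toRingHom), ?_⟩
  have h := (isPullback_SpecMap_of_isPushout _ _ _ _
    (CommRingCat.isPushout_tensorProduct R₀ R (P.ModelOfHasCoeffs R₀))).flip
  refine h.of_iso (Scheme.Spec.mapIso e.symm.toRingEquiv.toCommRingCatIso.op) (Iso.refl _) (Iso.refl _) (Iso.refl _)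
    ?_ ?_ (by simp) (by simp)
  · simp only [Iso.refl_hom, Category.comp_id, Functor.mapIso_hom, Iso.op_hom, Scheme.Spec_map,
      Quiver.Hom.unop_op, ← Spec.map_comp]
    congr 1
    refine CommRingCat.hom_ext (RingHom.ext fun x => ?_)
    show _ = e.symm (e ((1 : R) ⊗ₜ x))
    rw [e.symm_apply_apply]
    rfl
  · simp only [Iso.refl_hom, Category.comp_id, Functor.mapIso_hom, Iso.op_hom, Scheme.Spec_map,
      Quiver.Hom.unop_op, ← Spec.map_comp]
    congr 1
    refine CommRingCat.hom_ext (RingHom.ext fun x => ?_)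
    simp

variable {I : Type u} [Category.{u} I] {D : I ⥤ Scheme.{u}} {c : Cone D}
variable [IsCofiltered I] [∀ (i j : I) (f : i ⟶ j), IsAffineHom (D.map f)]
  [∀ i, CompactSpace (D.obj i)] [∀ i, QuasiSeparatedSpace (D.obj i)]

/-- An affine chart has a model. -/
theorem exists_affine (hc : IsLimit c) {X : Scheme.{u}} (f : X ⟶ c.pt) [LocallyOfFinitePresentation f]
    {i : I} {W : (D.obj i).Opens} (hW : IsAffineOpen W) {U : X.Opens} (hU : IsAffineOpen U)
    (hUW : U ≤ f ⁻¹ᵁ (c.π.app i ⁻¹ᵁ W)) :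
    ∃ j, Nonempty (Model c (U.ι ≫ f) j) := by
  haveI := isAffineHom_π_app D c hc
  let W₀ := c.π.app i ⁻¹ᵁ W
  have hW₀ : IsAffineOpen W₀ := hW.preimage _
  let B := Γ(X, U)
  letI : Algebra Γ(c.pt, W₀) Γ(X, U) := (f.appLE W₀ U hUW).hom.toAlgebra
  haveI : Algebra.FinitePresentation Γ(c.pt, W₀) Γ(X, U) := f.finitePresentation_appLE hW₀ hU hUW
  let P := Algebra.Presentation.ofFinitePresentation Γ(c.pt, W₀) Γ(X, U)
  haveI : Finite P.coeffs := P.finite_coeffs.to_subtype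
  obtain ⟨j, φ, t, ht⟩ := exists_secπ_eq_finite hc hW (fun a : P.coeffs => (a : Γ(c.pt, W₀)))
  let Wj := D.map φ ⁻¹ᵁ W
  have hWj : IsAffineOpen Wj := hW.preimage _
  letI : Algebra Γ(D.obj j, Wj) Γ(c.pt, W₀) := (secπ (c := c) φ W).hom.toAlgebra
  letI : Algebra Γ(D.obj j, Wj) Γ(X, U) :=
    ((algebraMap Γ(c.pt, W₀) Γ(X, U)).comp (secπ (c := c) φ W).hom).toAlgebra
  haveI : IsScalarTower Γ(D.obj j, Wj) Γ(c.pt, W₀) Γ(X, U) := IsScalarTower.of_algebraMap_eq fun _ => rfl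
  haveI : P.HasCoeffs Γ(D.obj j, Wj) := ⟨fun x hx => ⟨t ⟨x, hx⟩, ht ⟨x, hx⟩⟩⟩
  obtain ⟨g, hsq⟩ := isPullback_specModel (R₀ := Γ(D.obj j, Wj)) P
  have hsec : IsPullback (Spec.map (secπ (c := c) φ W)) hW₀.fromSpec hWj.fromSpec (c.π.app j) := by
    refine IsOpenImmersion.isPullback _ _ _ _ ?_ ?_
    · exact (IsAffineOpen.SpecMap_appLE_fromSpec (c.π.app j) hWj hW₀ (π_preimage_le φ W)).symm
    · rw [hWj.opensRange_fromSpec, hW₀.opensRange_fromSpec]
      show c.π.app j ⁻¹ᵁ (D.map φ ⁻¹ᵁ W) = W₀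
      rw [← Scheme.Hom.comp_preimage, c.w φ]
  have hpb := (hsq.paste_vert hsec)
  let φ₀ := Spec.map (CommRingCat.ofHom (algebraMap Γ(D.obj j, Wj) (P.ModelOfHasCoeffs Γ(D.obj j, Wj))))
  haveI : LocallyOfFinitePresentation φ₀ :=
    (HasRingHomProperty.Spec_iff (P := @LocallyOfFinitePresentation)).mpr
      (RingHom.finitePresentation_algebraMap.mpr inferInstance)
  refine ⟨j, ⟨⟨_, φ₀ ≫ hWj.fromSpec, inferInstance, quasiCompact_of_compactSpace _,
    (quasiSeparated_iff_quasiSeparatedSpace _).2 inferInstance, hU.isoSpec.hom ≫ g, ?_⟩⟩⟩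
  refine hpb.of_iso hU.isoSpec.symm (Iso.refl _) (Iso.refl _) (Iso.refl _) ?_ ?_ (by simp [φ₀]) (by simp)
  · simp
  · simp only [Iso.refl_hom, Category.comp_id, Iso.symm_hom]
    rw [show U.ι = hU.isoSpec.hom ≫ hU.fromSpec from (hU.isoSpec_hom_fromSpec).symm, Category.assoc,
      Iso.inv_hom_id_assoc]
    exact IsAffineOpen.SpecMap_appLE_fromSpec f hW₀ hU hUW

set_option maxHeartbeats 800000 in
/-- A finitely presented scheme over the limit comes from a stage. -/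
theorem exists_model (hc : IsLimit c) {X : Scheme.{u}} (f : X ⟶ c.pt) [LocallyOfFinitePresentation f]
    [QuasiCompact f] [QuasiSeparated f] : ∃ i, Nonempty (Model c f i) := by
  haveI := isAffineHom_π_app D c hc
  haveI : CompactSpace c.pt := Scheme.compactSpace_of_isLimit D c hc
  haveI : QuasiSeparatedSpace c.pt :=
    quasiSeparatedSpace_of_quasiSeparated (c.π.app (IsCofiltered.nonempty (C := I)).some)
  haveI : CompactSpace X := QuasiCompact.compactSpace_of_compactSpace f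
  haveI : QuasiSeparatedSpace X := quasiSeparatedSpace_of_quasiSeparated f
  have key : ∀ s : Finset {U : X.affineOpens // ∃ (i : I) (W : (D.obj i).Opens), IsAffineOpen W ∧
      U.1 ≤ f ⁻¹ᵁ (c.π.app i ⁻¹ᵁ W)}, ∃ i, Nonempty (Model c ((⨆ U ∈ s, U.1.1).ι ≫ f) i) := by
    classical
    intro s
    induction s using Finset.induction_on with
    | empty =>
      obtain ⟨i⟩ := IsCofiltered.nonempty (C := I)
      let O : (D.obj i).Opens := ⊥
      have hbot : (⨆ U ∈ (∅ : Finset {U : X.affineOpens // ∃ (i : I) (W : (D.obj i).Opens), IsAffineOpen W ∧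
        U.1 ≤ f ⁻¹ᵁ (c.π.app i ⁻¹ᵁ W)}), U.1.1) = ⊥ := by simp
      obtain ⟨j, hj⟩ := exists_affine hc f (i := i) (W := ⊥) (isAffineOpen_bot _) (U := ⊥) (isAffineOpen_bot _) bot_le
      exact ⟨j, hbot ▸ hj⟩
    | insert U s hU ih =>
      obtain ⟨i, ⟨M⟩⟩ := ih
      obtain ⟨iW, W, hW, hUW⟩ := U.2
      obtain ⟨j, ⟨N⟩⟩ := exists_affine hc f hW U.1.2 hUW
      have hc' : IsCompact ((⨆ V ∈ s, V.1.1 : X.Opens) : Set X) := by
        rw [Opens.coe_iSup]
        simp only [Opens.coe_iSup]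
        exact s.finite_toSet.isCompact_biUnion fun V _ => V.1.2.isCompact
      obtain ⟨k, hk⟩ := exists_sup hc f U.1.2.isCompact hc' N M
      have e : (⨆ V ∈ insert U s, V.1.1) = U.1.1 ⊔ ⨆ V ∈ s, V.1.1 := Finset.iSup_insert _ _ _
      exact ⟨k, e ▸ hk⟩
  have hcov : ∀ x : X, ∃ U : {U : X.affineOpens // ∃ (i : I) (W : (D.obj i).Opens), IsAffineOpen W ∧
      U.1 ≤ f ⁻¹ᵁ (c.π.app i ⁻¹ᵁ W)}, x ∈ U.1.1 := by
    intro x
    obtain ⟨i⟩ := IsCofiltered.nonempty (C := I)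
    obtain ⟨W, hW, hxW, -⟩ := exists_isAffineOpen_mem_and_subset (U := (⊤ : (D.obj i).Opens)) (x := c.π.app i (f x)) trivial
    obtain ⟨U, hU, hxU, hUW⟩ := exists_isAffineOpen_mem_and_subset (U := f ⁻¹ᵁ (c.π.app i ⁻¹ᵁ W)) (x := x) hxW
    exact ⟨⟨⟨U, hU⟩, i, W, hW, hUW⟩, hxU⟩
  choose U hU using hcov
  obtain ⟨s, hs⟩ := isCompact_univ.elim_finite_subcover (fun x => ((U x).1.1 : Set X)) (fun x => (U x).1.1.2)
    (fun x _ => Set.mem_iUnion.2 ⟨x, hU x⟩)
  classical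
  obtain ⟨i, ⟨M⟩⟩ := key (s.image U)
  have htop : (⨆ V ∈ s.image U, V.1.1) = ⊤ := top_le_iff.1 fun x _ => by
    obtain ⟨y, hy, hxy⟩ := Set.mem_iUnion₂.1 (hs (Set.mem_univ x))
    exact Opens.mem_iSup.2 ⟨U y, Opens.mem_iSup.2 ⟨Finset.mem_image_of_mem U hy, hxy⟩⟩
  let e := X.isoOfEq htop ≪≫ X.topIso
  exact ⟨i, ⟨⟨M.P, M.p, M.lfp, M.qc, M.qs, e.inv ≫ M.g, M.hpb.of_iso e (Iso.refl _) (Iso.refl _) (Iso.refl _)
    (by simp) (by simp [e]) (by simp) (by simp)⟩⟩⟩

end Groth.Agent.H7Lim.FPDescent
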