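import Groth.Agent.H7Lim.FPDescent.Exists
import Mathlib.RingTheory.FiniteType
import Mathlib.RingTheory.Adjoin.Basic
import Mathlib.AlgebraicGeometry.Morphisms.FiniteType

/-!
# Absolute Noetherian approximation of finitely presented morphisms to affine schemes
-/

set_option autoImplicit false
set_option linter.style.haveILetI false
set_option backward.isDefEq.respectTransparency false

universe u

open CategoryTheory Limits AlgebraicGeometry Opposite

namespace Groth.Agent.H7Lim.FPDescent

variable (R : Type u) [CommRing R]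

/-- The finitely generated subrings of `R`. -/
noncomputable def subringFunctor : Finset R ⥤ CommRingCat.{u} where
  obj s := CommRingCat.of (Algebra.adjoin ℤ (s : Set R))
  map {_ _} h := CommRingCat.ofHom
    (Subalgebra.inclusion (Algebra.adjoin_mono (by exact_mod_cast leOfHom h))).toRingHom
  map_id _ := rfl
  map_comp _ _ := rfl

/-- The cocone on `R`. -/
noncomputable def subringCocone : Cocone (subringFunctor R) where
  pt := CommRingCat.of R
  ι := { app := fun s => CommRingCat.ofHom (Algebra.adjoin ℤ (s : Set R)).val.toRingHom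
         naturality := fun _ _ _ => rfl }

/-- `R` is the colimit of its finitely generated subrings. -/
noncomputable def subringIsColimit : IsColimit (subringCocone R) := by
  classical
  let mem : ∀ b : R, b ∈ Algebra.adjoin ℤ ((({b} : Finset R)) : Set R) := fun b =>
    Algebra.subset_adjoin (by simp)
  have any : ∀ (c : Cocone (subringFunctor R)) (s : Finset R) (b : R) (hb : b ∈ Algebra.adjoin ℤ (s : Set R)),
      (c.ι.app s).hom ⟨b, hb⟩ = (c.ι.app {b}).hom ⟨b, mem b⟩ := by
    intro c s b hb
    have h1 := congrArg (fun k => k.hom ⟨b, hb⟩) (c.w (homOfLE (Finset.subset_union_left : s ≤ s ∪ {b})))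
    have h2 := congrArg (fun k => k.hom ⟨b, mem b⟩) (c.w (homOfLE (Finset.subset_union_right : {b} ≤ s ∪ {b})))
    exact h1.symm.trans h2
  refine
    { desc := fun c => CommRingCat.ofHom
        { toFun := fun b => (c.ι.app {b}).hom ⟨b, mem b⟩
          map_one' := by
            rw [← any c {1} 1 (one_mem _)]
            exact (c.ι.app {1}).hom.map_one
          map_zero' := by
            rw [← any c {0} 0 (zero_mem _)]
            exact (c.ι.app {0}).hom.map_zero
          map_mul' := fun a b => by
            have ha : a ∈ Algebra.adjoin ℤ (({a, b} : Finset R) : Set R) := Algebra.subset_adjoin (by simp)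
            have hb : b ∈ Algebra.adjoin ℤ (({a, b} : Finset R) : Set R) := Algebra.subset_adjoin (by simp)
            rw [← any c {a, b} (a * b) (mul_mem ha hb), ← any c {a, b} a ha, ← any c {a, b} b hb]
            exact (c.ι.app {a, b}).hom.map_mul ⟨a, ha⟩ ⟨b, hb⟩
          map_add' := fun a b => by
            have ha : a ∈ Algebra.adjoin ℤ (({a, b} : Finset R) : Set R) := Algebra.subset_adjoin (by simp)
            have hb : b ∈ Algebra.adjoin ℤ (({a, b} : Finset R) : Set R) := Algebra.subset_adjoin (by simp)
            rw [← any c {a, b} (a + b) (add_mem ha hb), ← any c {a, b} a ha, ← any c {a, b} b hb]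
            exact (c.ι.app {a, b}).hom.map_add ⟨a, ha⟩ ⟨b, hb⟩ }
      fac := fun c s => CommRingCat.hom_ext (RingHom.ext fun x => (any c s x.1 x.2).symm)
      uniq := fun c m hm => CommRingCat.hom_ext (RingHom.ext fun b => ?_) }
  exact congrArg (fun k => k.hom ⟨b, mem b⟩) (hm {b})

/-- A finitely presented scheme over an affine scheme comes from a subring of finite type over `ℤ`. -/
theorem exists_noetherian_model {X : Scheme.{u}} (f : X ⟶ Spec (CommRingCat.of R))
    [LocallyOfFinitePresentation f] [QuasiCompact f] [QuasiSeparated f] :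
    ∃ (R₀ : Type u) (_ : CommRing R₀) (_ : Algebra R₀ R) (X₀ : Scheme.{u})
      (f₀ : X₀ ⟶ Spec (CommRingCat.of R₀)) (g : X ⟶ X₀),
      Algebra.FiniteType ℤ R₀ ∧ LocallyOfFinitePresentation f₀ ∧ QuasiCompact f₀ ∧ QuasiSeparated f₀ ∧
        IsPullback g f f₀ (Spec.map (CommRingCat.ofHom (algebraMap R₀ R))) := by
  let c : Cone ((subringFunctor R).op ⋙ Scheme.Spec) := Scheme.Spec.mapCone (subringCocone R).op
  have hc : IsLimit c := isLimitOfPreserves Scheme.Spec (subringIsColimit R).op
  haveI : ∀ (i j : (Finset R)ᵒᵖ) (φ : i ⟶ j), IsAffineHom (((subringFunctor R).op ⋙ Scheme.Spec).map φ) := fun i j φ =>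
    inferInstanceAs (IsAffineHom (Spec.map _))
  haveI : ∀ i, CompactSpace (((subringFunctor R).op ⋙ Scheme.Spec).obj i) := fun i =>
    inferInstanceAs (CompactSpace ↥(Spec _))
  haveI : ∀ i, QuasiSeparatedSpace (((subringFunctor R).op ⋙ Scheme.Spec).obj i) := fun i =>
    inferInstanceAs (QuasiSeparatedSpace ↥(Spec _))
  haveI : Nonempty (Finset R) := ⟨∅⟩
  obtain ⟨i, ⟨M⟩⟩ := exists_model hc (X := X) f
  refine ⟨↥(Algebra.adjoin ℤ ((unop i : Finset R) : Set R)), inferInstance,
    (Algebra.adjoin ℤ ((unop i : Finset R) : Set R)).val.toRingHom.toAlgebra, M.P, M.p, M.g, ?_, M.lfp, M.qc,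
    M.qs, M.hpb⟩
  exact (Algebra.adjoin ℤ ((unop i : Finset R) : Set R)).fg_iff_finiteType.1 ⟨unop i, rfl⟩

end Groth.Agent.H7Lim.FPDescent
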