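import Groth.Agent.H7Lim.DescendIso
import Groth.Agent.H7Lim.DescendUnramified
import Mathlib.AlgebraicGeometry.AffineTransitionLimit
import Mathlib.AlgebraicGeometry.Morphisms.QuasiSeparated

/-!
# Models of schemes over a cofiltered limit at a stage
-/

set_option autoImplicit false
set_option linter.style.haveILetI false
set_option backward.isDefEq.respectTransparency false
set_option backward.defeqAttrib.useBackward true

universe u

open CategoryTheory Limits AlgebraicGeometry

namespace Groth.Agent.H7Lim.FPDescent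

variable {I : Type u} [Category.{u} I] {D : I ⥤ Scheme.{u}} {c : Cone D}

variable (c) in
/-- A finitely presented scheme at stage `i` whose base change to the limit is `h`. -/
structure Model {U : Scheme.{u}} (h : U ⟶ c.pt) (i : I) where
  P : Scheme.{u}
  p : P ⟶ D.obj i
  lfp : LocallyOfFinitePresentation p
  qc : QuasiCompact p
  qs : QuasiSeparated p
  g : U ⟶ P
  hpb : IsPullback g h p (c.π.app i)

attribute [instance] Model.lfp Model.qc Model.qs

variable {U V : Scheme.{u}} {h : U ⟶ c.pt} {h' : V ⟶ c.pt}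

/-- Move a model to a later stage. -/
noncomputable def Model.shift {i j : I} (M : Model c h i) (φ : j ⟶ i) : Model c h j where
  P := pullback M.p (D.map φ)
  p := pullback.snd _ _
  lfp := MorphismProperty.pullback_snd _ _ M.lfp
  qc := MorphismProperty.pullback_snd _ _ M.qc
  qs := MorphismProperty.pullback_snd _ _ M.qs
  g := pullback.lift M.g (h ≫ c.π.app j) (by rw [Category.assoc, c.w, M.hpb.w])
  hpb := by
    refine IsPullback.of_right (h₁₂ := pullback.fst M.p (D.map φ)) (h₂₂ := D.map φ) (v₁₃ := M.p) ?_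
      (pullback.lift_snd _ _ _) (IsPullback.of_hasPullback _ _)
    rw [pullback.lift_fst, c.w]
    exact M.hpb

/-- A morphism of models at a common stage over a morphism upstairs. -/
structure Hom {i : I} (M : Model c h i) (N : Model c h' i) (w : U ⟶ V) where
  o : M.P ⟶ N.P
  w_p : o ≫ N.p = M.p
  w_g : M.g ≫ o = w ≫ N.g

/-- Move a morphism of models to a later stage. -/
noncomputable def Hom.shift {i j : I} {M : Model c h i} {N : Model c h' i} {w : U ⟶ V} (F : Hom M N w)
    (φ : j ⟶ i) (hw : w ≫ h' = h) : Hom (M.shift φ) (N.shift φ) w where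
  o := pullback.map _ _ _ _ F.o (𝟙 _) (𝟙 _) (by simp [F.w_p]) (by simp)
  w_p := by simp [Model.shift]
  w_g := by
    show pullback.lift _ _ _ ≫ _ = w ≫ pullback.lift _ _ _
    apply pullback.hom_ext
    · simp [F.w_g]
    · simp [reassoc_of% hw]

theorem Hom.isOpenImmersion_shift {i j : I} {M : Model c h i} {N : Model c h' i} {w : U ⟶ V}
    (F : Hom M N w) [IsOpenImmersion F.o] (φ : j ⟶ i) (hw : w ≫ h' = h) :
    IsOpenImmersion (F.shift φ hw).o := by
  have : IsOpenImmersion (pullback.map M.p (D.map φ) N.p (D.map φ) F.o (𝟙 _) (𝟙 _) (by simp [F.w_p]) (by simp)) :=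
    inferInstance
  exact this

variable [IsCofiltered I] [∀ (i j : I) (f : i ⟶ j), IsAffineHom (D.map f)]
  [∀ i, CompactSpace (D.obj i)] [∀ i, QuasiSeparatedSpace (D.obj i)]

omit [IsCofiltered I] [∀ (i j : I) (f : i ⟶ j), IsAffineHom (D.map f)] [∀ i, QuasiSeparatedSpace (D.obj i)] in
theorem Model.compactSpace {i : I} (M : Model c h i) : CompactSpace M.P :=
  QuasiCompact.compactSpace_of_compactSpace M.p

omit [IsCofiltered I] [∀ (i j : I) (f : i ⟶ j), IsAffineHom (D.map f)] [∀ i, CompactSpace (D.obj i)] in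
theorem Model.quasiSeparatedSpace {i : I} (M : Model c h i) : QuasiSeparatedSpace M.P :=
  quasiSeparatedSpace_of_quasiSeparated M.p

/-- A quasi-compact open of the limit comes from a later stage. -/
theorem exists_open (hc : IsLimit c) {i : I} (M : Model c h i) (w : V ⟶ U) [IsOpenImmersion w]
    [CompactSpace V] (hw : w ≫ h = h') :
    ∃ (j : I) (φ : j ⟶ i) (N : Model c h' j) (F : Hom N (M.shift φ) w), IsOpenImmersion F.o := by
  haveI := M.compactSpace
  haveI := M.quasiSeparatedSpace
  let e := M.hpb.isoPullback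
  have hW : IsCompact ((w ≫ e.hom).opensRange : Set (pullback M.p (c.π.app i) :)) :=
    isCompact_range (w ≫ e.hom).continuous
  haveI : ∀ (j k : Over i) (f : j ⟶ k), IsAffineHom ((pbDiagram D i M.p).map f) := isAffineHom_pbDiagram_map D i M.p
  obtain ⟨k, O, hO, hOW⟩ := exists_preimage_eq (pbDiagram D i M.p) _ (isLimitPbCone D i M.p hc)
    (w ≫ e.hom).opensRange hW
  let M' := M.shift k.hom
  let O' : M'.P.Opens := O
  have hg : M'.g = e.hom ≫ (pbCone D c i M.p).π.app k := by
    show pullback.lift _ _ _ = _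
    apply pullback.hom_ext <;> simp [e]
  have hpre : M'.g ⁻¹ᵁ O'.ι.opensRange = w.opensRange := by
    rw [Scheme.Opens.opensRange_ι, hg, Scheme.Hom.comp_preimage]
    show e.hom ⁻¹ᵁ ((pbCone D c i M.p).π.app k ⁻¹ᵁ O) = _
    rw [hOW]
    ext x
    constructor
    · rintro ⟨y, hy⟩
      exact ⟨y, e.hom.homeomorph.injective hy⟩
    · rintro ⟨y, rfl⟩
      exact ⟨y, rfl⟩
  let gV : V ⟶ O'.toScheme := IsOpenImmersion.lift O'.ι (w ≫ M'.g) (by
    rintro _ ⟨y, rfl⟩
    exact hpre.ge ⟨y, rfl⟩)
  have hgV : gV ≫ O'.ι = w ≫ M'.g := IsOpenImmersion.lift_fac _ _ _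
  have hsq : IsPullback gV w O'.ι M'.g := IsOpenImmersion.isPullback gV w O'.ι M'.g hgV.symm hpre
  haveI : QuasiCompact O'.ι := by
    haveI := M'.compactSpace
    haveI := M'.quasiSeparatedSpace
    haveI : CompactSpace O'.toScheme := isCompact_iff_compactSpace.1 hO
    exact quasiCompact_of_compactSpace _
  let N : Model c h' k.left :=
    { P := O'.toScheme
      p := O'.ι ≫ M'.p
      lfp := inferInstance
      qc := inferInstance
      qs := inferInstance
      g := gV
      hpb := by rw [← hw]; exact hsq.paste_vert M'.hpb }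
  exact ⟨k.left, k.hom, N, ⟨O'.ι, rfl, hgV⟩, inferInstanceAs (IsOpenImmersion O'.ι)⟩

/-- A morphism upstairs descends to a later stage. -/
theorem exists_hom (hc : IsLimit c) {i : I} (M : Model c h i) (N : Model c h' i) (w : U ⟶ V) (hw : w ≫ h' = h) :
    ∃ (j : I) (φ : j ⟶ i), Nonempty (Hom (M.shift φ) (N.shift φ) w) := by
  haveI := M.compactSpace
  haveI := M.quasiSeparatedSpace
  let e := M.hpb.isoPullback
  haveI : ∀ (j k : Over i) (f : j ⟶ k), IsAffineHom ((pbDiagram D i M.p).map f) := isAffineHom_pbDiagram_map D i M.p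
  let t : pbDiagram D i M.p ⟶ (Functor.const (Over i)).obj (D.obj i) :=
    { app := fun k => pullback.fst _ _ ≫ M.p
      naturality := fun k l f => by simp }
  obtain ⟨k, u, hu, hup⟩ := Scheme.exists_π_app_comp_eq_of_locallyOfFinitePresentation
    (pbDiagram D i M.p) t N.p _ (isLimitPbCone D i M.p hc) (e.inv ≫ w ≫ N.g) (by
      ext k
      show (pbCone D c i M.p).π.app k ≫ pullback.fst _ _ ≫ M.p = (e.inv ≫ w ≫ N.g) ≫ N.p
      simp only [Category.assoc, N.hpb.w, reassoc_of% hw, ← M.hpb.w]
      simp [e])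
  refine ⟨k.left, k.hom, ⟨⟨pullback.lift u (pullback.snd M.p (D.map k.hom)) ?_, pullback.lift_snd _ _ _, ?_⟩⟩⟩
  · show u ≫ N.p = _
    rw [hup]
    show pullback.fst _ _ ≫ M.p = _
    exact pullback.condition
  · show pullback.lift _ _ _ ≫ pullback.lift _ _ _ = w ≫ pullback.lift _ _ _
    apply pullback.hom_ext
    · simp only [Category.assoc, pullback.lift_fst]
      have h1 : pullback.lift M.g (h ≫ c.π.app k.left) (by rw [Category.assoc, c.w, M.hpb.w]) =
          e.hom ≫ (pbCone D c i M.p).π.app k := by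
        apply pullback.hom_ext <;> simp [e]
      rw [h1, Category.assoc, hu, e.hom_inv_id_assoc]
    · simp [reassoc_of% hw]

/-- A morphism of models over an isomorphism becomes an isomorphism. -/
theorem exists_isIso (hc : IsLimit c) {i : I} {M : Model c h i} {N : Model c h' i} {w : U ⟶ V}
    (F : Hom M N w) [IsIso w] (hw : w ≫ h' = h) :
    ∃ (j : I) (φ : j ⟶ i), IsIso (F.shift φ hw).o := by
  haveI := N.compactSpace
  haveI : QuasiCompact (F.o ≫ N.p) := F.w_p.symm ▸ M.qc
  haveI : QuasiSeparated (F.o ≫ N.p) := F.w_p.symm ▸ M.qs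
  haveI : LocallyOfFinitePresentation (F.o ≫ N.p) := F.w_p.symm ▸ M.lfp
  haveI : QuasiCompact F.o := .of_comp F.o N.p
  haveI : QuasiSeparated F.o := .of_comp F.o N.p
  have hX : IsPullback M.g w F.o N.g :=
    IsPullback.of_bot (by rw [F.w_p, hw]; exact M.hpb) F.w_g N.hpb
  obtain ⟨j, φ, Xj, Yj, fj, gj, pY, pX, h1, h2, h3⟩ :=
    (exists_descend_square_iff hc (P := MorphismProperty.isomorphisms Scheme.{u})
      (Q := @LocallyOfFinitePresentation) descends_isIso.descendsAffine i F.o N.p N.hpb hX
      (locallyOfFinitePresentation_of_comp F.o N.p)).1 ‹IsIso w›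
  refine ⟨j, φ, ?_⟩
  haveI : IsIso fj := h3
  have hsq : IsPullback (pullback.fst M.p (D.map φ)) (F.shift φ hw).o F.o (pullback.fst N.p (D.map φ)) := by
    refine IsPullback.of_bot ?_ (by simp [Hom.shift]) (IsPullback.of_hasPullback N.p (D.map φ))
    rw [show (F.shift φ hw).o ≫ pullback.snd N.p (D.map φ) = pullback.snd M.p (D.map φ) by simp [Hom.shift],
      F.w_p]
    exact IsPullback.of_hasPullback M.p (D.map φ)
  let eY := h1.isoPullback
  have h2' : IsPullback pX (fj ≫ eY.hom) F.o (pullback.fst N.p (D.map φ)) :=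
    h2.of_iso (Iso.refl _) (Iso.refl _) eY (Iso.refl _) (by simp) (by simp) (by simp) (by simpa [eY] using h1.isoPullback_hom_fst.symm)
  have h4 : IsIso (hsq.isoIsPullback _ _ h2').hom := inferInstance
  have h5 : (F.shift φ hw).o = (hsq.isoIsPullback _ _ h2').hom ≫ fj ≫ eY.hom :=
    (hsq.isoIsPullback_hom_snd _ _ h2').symm
  rw [h5]
  infer_instance

end Groth.Agent.H7Lim.FPDescent
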