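import Groth.Agent.H7Lim.FPDescent.Model
import Groth.Agent.H7Lim.GlueOpen
import Groth.Agent.H17.TwoGlue

/-!
# Gluing models along a common open
-/

set_option autoImplicit false
set_option linter.style.haveILetI false
set_option backward.isDefEq.respectTransparency false
set_option backward.defeqAttrib.useBackward true

universe u

open CategoryTheory Limits AlgebraicGeometry TopologicalSpace

namespace Groth.Agent.H7Lim.FPDescent

variable {I : Type u} [Category.{u} I] {D : I ⥤ Scheme.{u}} {c : Cone D}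

/-- Quasi-compact opens of a quasi-separated glued scheme. -/
theorem quasiCompact_glued {P T A B O : Scheme.{u}} [CompactSpace T] [QuasiSeparatedSpace T]
    (p : P ⟶ T) (i₁ : A ⟶ P) (i₂ : B ⟶ P) [IsOpenImmersion i₁] [IsOpenImmersion i₂]
    [CompactSpace A] [CompactSpace B] [CompactSpace O] [QuasiSeparatedSpace A] [QuasiSeparatedSpace B]
    (j₁ : O ⟶ A) (j₂ : O ⟶ B) (hij : j₁ ≫ i₁ = j₂ ≫ i₂)
    (hcov : ∀ x : P, x ∈ Set.range i₁ ∨ x ∈ Set.range i₂)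
    (hmeet : ∀ x y, i₁ x = i₂ y → x ∈ Set.range j₁ ∧ y ∈ Set.range j₂) :
    QuasiCompact p ∧ QuasiSeparated p := by
  haveI : CompactSpace P := ⟨by
    rw [show (Set.univ : Set P) = Set.range i₁ ∪ Set.range i₂ from (Set.eq_univ_of_forall hcov).symm]
    exact (isCompact_range i₁.continuous).union (isCompact_range i₂.continuous)⟩
  have hO : Set.range i₁ ∩ Set.range i₂ = Set.range (j₁ ≫ i₁) := by
    ext x
    constructor
    · rintro ⟨⟨a, rfl⟩, b, hb⟩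
      obtain ⟨o, ho⟩ := (hmeet a b hb.symm).1
      exact ⟨o, by rw [Scheme.Hom.comp_apply, ho]⟩
    · rintro ⟨o, rfl⟩
      exact ⟨⟨j₁ o, rfl⟩, ⟨j₂ o, by rw [← Scheme.Hom.comp_apply, ← hij]⟩⟩
  haveI : QuasiSeparatedSpace P := by
    have h₁ : IsQuasiSeparated (Set.range i₁) := by
      rw [← Set.image_univ]
      exact (isQuasiSeparated_univ_iff.2 ‹_›).image_of_isEmbedding i₁.isOpenEmbedding.isEmbedding
    have h₂ : IsQuasiSeparated (Set.range i₂) := by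
      rw [← Set.image_univ]
      exact (isQuasiSeparated_univ_iff.2 ‹_›).image_of_isEmbedding i₂.isOpenEmbedding.isEmbedding
    have hmid : IsCompact (Set.range i₁ ∩ Set.range i₂) := hO ▸ isCompact_range (j₁ ≫ i₁).continuous
    have hr₁ : IsOpen (Set.range i₁) := i₁.isOpenEmbedding.isOpen_range
    have hr₂ : IsOpen (Set.range i₂) := i₂.isOpenEmbedding.isOpen_range
    -- a chart and the other
    have mixed : ∀ (R R' : Set P), IsOpen R → IsOpen R' → IsQuasiSeparated R → IsQuasiSeparated R' →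
        IsCompact (R ∩ R') → ∀ U V : Set P, IsOpen U → IsCompact U → IsOpen V → IsCompact V →
        U ⊆ R → V ⊆ R' → IsCompact (U ∩ V) := by
      intro R R' hR hR' hqR hqR' hRR U V hU hUc hV hVc hUR hVR
      have h1 : IsCompact (U ∩ (R ∩ R')) :=
        hqR U (R ∩ R') hUR hU hUc Set.inter_subset_left (hR.inter hR') hRR
      have h2 := hqR' (U ∩ (R ∩ R')) V (fun x hx => hx.2.2) (hU.inter (hR.inter hR')) h1 hVR hV hVc
      convert h2 using 1
      ext x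
      exact ⟨fun ⟨a, b⟩ => ⟨⟨a, hUR a, hVR b⟩, b⟩, fun ⟨⟨a, _⟩, b⟩ => ⟨a, b⟩⟩
    let ι := {U : P.affineOpens // (U.1 : Set P) ⊆ Set.range i₁ ∨ (U.1 : Set P) ⊆ Set.range i₂}
    refine Scheme.quasiSeparatedSpace_of_isOpenCover (fun U : ι => U.1.1) ?_ (fun U => U.1.2) fun U V => ?_
    · refine top_le_iff.1 fun x _ => ?_
      rcases hcov x with hx | hx
      · obtain ⟨U, hU, hxU, hUi⟩ := exists_isAffineOpen_mem_and_subset (U := i₁.opensRange) hx
        exact Opens.mem_iSup.2 ⟨⟨⟨U, hU⟩, Or.inl hUi⟩, hxU⟩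
      · obtain ⟨U, hU, hxU, hUi⟩ := exists_isAffineOpen_mem_and_subset (U := i₂.opensRange) hx
        exact Opens.mem_iSup.2 ⟨⟨⟨U, hU⟩, Or.inr hUi⟩, hxU⟩
    · rcases U.2 with hU | hU <;> rcases V.2 with hV | hV
      · exact h₁ _ _ hU U.1.1.2 U.1.2.isCompact hV V.1.1.2 V.1.2.isCompact
      · exact mixed _ _ hr₁ hr₂ h₁ h₂ hmid _ _ U.1.1.2 U.1.2.isCompact V.1.1.2 V.1.2.isCompact hU hV
      · exact mixed _ _ hr₂ hr₁ h₂ h₁ (Set.inter_comm _ _ ▸ hmid) _ _ U.1.1.2 U.1.2.isCompact V.1.1.2 V.1.2.isCompact hU hV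
      · exact h₂ _ _ hU U.1.1.2 U.1.2.isCompact hV V.1.1.2 V.1.2.isCompact
  exact ⟨quasiCompact_of_compactSpace p, (quasiSeparated_iff_quasiSeparatedSpace p).2 ‹_›⟩

variable [IsCofiltered I] [∀ (i j : I) (f : i ⟶ j), IsAffineHom (D.map f)]
  [∀ i, CompactSpace (D.obj i)] [∀ i, QuasiSeparatedSpace (D.obj i)]

/-- Two models become charts glued along a common open. -/
theorem exists_overlap (hc : IsLimit c) {U V W : Scheme.{u}} {hU : U ⟶ c.pt} {hV : V ⟶ c.pt}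
    {hW : W ⟶ c.pt} [CompactSpace W] {iA iB : I} (MA : Model c hU iA) (MB : Model c hV iB)
    (wA : W ⟶ U) (wB : W ⟶ V) [IsOpenImmersion wA] [IsOpenImmersion wB]
    (hwA : wA ≫ hU = hW) (hwB : wB ≫ hV = hW) :
    ∃ (i : I) (PA : Model c hU i) (PB : Model c hV i) (O : Model c hW i) (F₁ : Hom O PA wA)
      (F₂ : Hom O PB wB), IsOpenImmersion F₁.o ∧ IsOpenImmersion F₂.o := by
  -- the common open at both models
  let i₀ := IsCofiltered.min iA iB
  obtain ⟨MA', -⟩ : ∃ M : Model c hU i₀, True := ⟨MA.shift (IsCofiltered.minToLeft iA iB), trivial⟩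
  obtain ⟨MB', -⟩ : ∃ M : Model c hV i₀, True := ⟨MB.shift (IsCofiltered.minToRight iA iB), trivial⟩
  obtain ⟨j₁, φ₁, NA, FA, hFA⟩ := exists_open hc MA' wA hwA
  obtain ⟨j₂, φ₂, NB, FB, hFB⟩ := exists_open hc MB' wB hwB
  generalize MA'.shift φ₁ = PA at FA hFA
  generalize MB'.shift φ₂ = PB at FB hFB
  let j := IsCofiltered.min j₁ j₂
  -- common stage
  have step : ∀ {i i' : I} {X Y : Scheme.{u}} {hX : X ⟶ c.pt} {hY : Y ⟶ c.pt} {M : Model c hX i} {N : Model c hY i}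
      {w : X ⟶ Y} (F : Hom M N w) (φ : i' ⟶ i) (hw : w ≫ hY = hX), IsOpenImmersion F.o →
      IsOpenImmersion (F.shift φ hw).o := fun F φ hw h => by
    haveI := h
    exact Hom.isOpenImmersion_shift F φ hw
  obtain ⟨PA₁, NA₁, FA₁, hFA₁⟩ : ∃ (PA₁ : Model c hU j) (NA₁ : Model c hW j) (F : Hom NA₁ PA₁ wA),
      IsOpenImmersion F.o := ⟨_, _, FA.shift (IsCofiltered.minToLeft j₁ j₂) hwA, step _ _ _ hFA⟩
  obtain ⟨PB₁, NB₁, FB₁, hFB₁⟩ : ∃ (PB₁ : Model c hV j) (NB₁ : Model c hW j) (F : Hom NB₁ PB₁ wB),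
      IsOpenImmersion F.o := ⟨_, _, FB.shift (IsCofiltered.minToRight j₁ j₂) hwB, step _ _ _ hFB⟩
  -- identify the two models of the overlap
  obtain ⟨k, χ, ⟨G⟩⟩ := exists_hom hc NA₁ NB₁ (𝟙 _) (Category.id_comp _)
  obtain ⟨PA₂, NA₂, FA₂, hFA₂, NB₂, PB₂, FB₂, hFB₂, G₂⟩ : ∃ (PA₂ : Model c hU k) (NA₂ : Model c hW k)
      (F : Hom NA₂ PA₂ wA) (_ : IsOpenImmersion F.o) (NB₂ : Model c hW k) (PB₂ : Model c hV k)
      (F' : Hom NB₂ PB₂ wB) (_ : IsOpenImmersion F'.o), Nonempty (Hom NA₂ NB₂ (𝟙 W)) :=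
    ⟨_, _, FA₁.shift χ hwA, step _ _ _ hFA₁, _, _, FB₁.shift χ hwB, step _ _ _ hFB₁, ⟨G⟩⟩
  obtain ⟨G₂⟩ := G₂
  obtain ⟨l, ω, hiso⟩ := exists_isIso hc G₂ (Category.id_comp _)
  obtain ⟨PA₃, O, F₁, hF₁, NB₃, PB₃, F₃, hF₃, G₃, hG₃⟩ : ∃ (PA₃ : Model c hU l) (O : Model c hW l)
      (F : Hom O PA₃ wA) (_ : IsOpenImmersion F.o) (NB₃ : Model c hW l) (PB₃ : Model c hV l)
      (F' : Hom NB₃ PB₃ wB) (_ : IsOpenImmersion F'.o) (G : Hom O NB₃ (𝟙 W)), IsIso G.o :=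
    ⟨_, _, FA₂.shift ω hwA, step _ _ _ hFA₂, _, _, FB₂.shift ω hwB, step _ _ _ hFB₂,
      G₂.shift ω (Category.id_comp _), hiso⟩
  haveI := hG₃
  haveI := hF₃
  haveI : IsOpenImmersion (G₃.o ≫ F₃.o) := inferInstance
  let F₂ : Hom O PB₃ wB := ⟨G₃.o ≫ F₃.o, by rw [Category.assoc, F₃.w_p, G₃.w_p],
      by rw [← Category.assoc, G₃.w_g, Category.id_comp, F₃.w_g]⟩
  exact ⟨l, PA₃, PB₃, O, F₁, F₂, hF₁, this⟩

/-- Charts glued along an open give a model of the union. -/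
theorem glued_isPullback {U A B W P PA PB O S T : Scheme.{u}} {f : U ⟶ S} {π : S ⟶ T}
    (lA : A ⟶ U) (lB : B ⟶ U) [IsOpenImmersion lA] [IsOpenImmersion lB]
    (hl : ∀ x : U, x ∈ Set.range lA ∨ x ∈ Set.range lB)
    (wA : W ⟶ A) (wB : W ⟶ B) (hw : wA ≫ lA = wB ≫ lB)
    {p : P ⟶ T} (i₁ : PA ⟶ P) (i₂ : PB ⟶ P) [IsOpenImmersion i₁] [IsOpenImmersion i₂]
    (hcov : ∀ x : P, x ∈ Set.range i₁ ∨ x ∈ Set.range i₂)
    {j₁ : O ⟶ PA} {j₂ : O ⟶ PB} (hmeet : ∀ x y, i₁ x = i₂ y → x ∈ Set.range j₁ ∧ y ∈ Set.range j₂)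
    {gA : A ⟶ PA} {gB : B ⟶ PB} {gW : W ⟶ O} (hjA : IsPullback gW wA j₁ gA) (hjB : IsPullback gW wB j₂ gB)
    (hA : IsPullback gA (lA ≫ f) (i₁ ≫ p) π) (hB : IsPullback gB (lB ≫ f) (i₂ ≫ p) π)
    (g : U ⟶ P) (hgA : lA ≫ g = gA ≫ i₁) (hgB : lB ≫ g = gB ≫ i₂) :
    IsPullback g f p π := by
  have hpre₁ : g ⁻¹ᵁ i₁.opensRange = lA.opensRange := by
    ext x
    constructor
    · rintro ⟨a, ha⟩
      rcases hl x with hx | ⟨b, rfl⟩
      · exact hx
      · have hb : i₁ a = i₂ (gB b) := by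
          rw [ha, ← Scheme.Hom.comp_apply, hgB, Scheme.Hom.comp_apply]
        obtain ⟨o, ho⟩ := (hmeet _ _ hb).2
        obtain ⟨w, -, rfl⟩ := Scheme.exists_preimage_of_isPullback hjB o b ho
        exact ⟨wA w, by rw [← Scheme.Hom.comp_apply, hw, Scheme.Hom.comp_apply]⟩
    · rintro ⟨a, rfl⟩
      exact ⟨gA a, by rw [← Scheme.Hom.comp_apply, ← hgA]; rfl⟩
  have hpre₂ : g ⁻¹ᵁ i₂.opensRange = lB.opensRange := by
    ext x
    constructor
    · rintro ⟨b, hb⟩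
      rcases hl x with ⟨a, rfl⟩ | hx
      · have ha : i₁ (gA a) = i₂ b := by
          rw [hb, ← Scheme.Hom.comp_apply, ← hgA, Scheme.Hom.comp_apply]
        obtain ⟨o, ho⟩ := (hmeet _ _ ha).1
        obtain ⟨w, -, rfl⟩ := Scheme.exists_preimage_of_isPullback hjA o a ho
        exact ⟨wB w, by rw [← Scheme.Hom.comp_apply, ← hw, Scheme.Hom.comp_apply]⟩
      · exact hx
    · rintro ⟨b, rfl⟩
      exact ⟨gB b, by rw [← Scheme.Hom.comp_apply, ← hgB]; rfl⟩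
  let 𝒰 : P.OpenCover := Scheme.openCoverOfIsOpenCover P
    (fun b : ULift.{u} Bool => if b.down then i₁.opensRange else i₂.opensRange) (top_le_iff.1 fun x _ => by
      rcases hcov x with h | h
      · exact Opens.mem_iSup.2 ⟨⟨true⟩, h⟩
      · exact Opens.mem_iSup.2 ⟨⟨false⟩, h⟩)
  have key : ∀ {C UC : Scheme.{u}} (i : C ⟶ P) [IsOpenImmersion i] (gC : UC ⟶ C)
      (lC : UC ⟶ U), IsPullback gC lC i g →
      IsPullback gC (lC ≫ f) (i ≫ p) π →
      IsPullback (pullback.snd g i.opensRange.ι) (pullback.fst g i.opensRange.ι ≫ f)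
        (i.opensRange.ι ≫ p) π := by
    intro C UC i _ gC lC sq1 sq2
    have sq3 : IsPullback (gC ≫ i.isoOpensRange.hom) lC i.opensRange.ι g :=
      sq1.of_iso (Iso.refl _) i.isoOpensRange (Iso.refl _) (Iso.refl _) (by simp) (by simp) (by simp) (by simp)
    let e := sq3.flip.isoPullback
    refine (sq2.of_iso e i.isoOpensRange (Iso.refl _) (Iso.refl _) ?_ ?_ ?_ ?_)
    · simp [e]
    · simp [e]
    · simp
    · simp
  refine Scheme.isPullback_of_openCover g f p π 𝒰 fun b => ?_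
  rcases b with ⟨_ | _⟩
  · exact key i₂ gB lB (IsOpenImmersion.isPullback gB lB i₂ g hgB hpre₂) hB
  · exact key i₁ gA lA (IsOpenImmersion.isPullback gA lA i₁ g hgA hpre₁) hA

set_option maxHeartbeats 1200000 in
/-- Models on two opens glue. -/
theorem exists_sup (hc : IsLimit c) {X : Scheme.{u}} (f : X ⟶ c.pt) [QuasiSeparatedSpace X] {A B : X.Opens}
    (hA : IsCompact (A : Set X)) (hB : IsCompact (B : Set X))
    {iA iB : I} (MA : Model c (A.ι ≫ f) iA) (MB : Model c (B.ι ≫ f) iB) :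
    ∃ i, Nonempty (Model c ((A ⊔ B).ι ≫ f) i) := by
  let wA : (A ⊓ B : X.Opens).toScheme ⟶ A.toScheme := X.homOfLE inf_le_left
  let wB : (A ⊓ B : X.Opens).toScheme ⟶ B.toScheme := X.homOfLE inf_le_right
  have hwA : wA ≫ A.ι ≫ f = (A ⊓ B : X.Opens).ι ≫ f := by simp [wA]
  have hwB : wB ≫ B.ι ≫ f = (A ⊓ B : X.Opens).ι ≫ f := by simp [wB]
  have hAB : IsCompact ((A ⊓ B : X.Opens) : Set X) :=
    QuasiSeparatedSpace.inter_isCompact _ _ A.2 hA B.2 hB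
  haveI : CompactSpace (A ⊓ B : X.Opens).toScheme := isCompact_iff_compactSpace.1 hAB
  obtain ⟨l, PA, PB, O, F₁, F₂, hF₁, hF₂⟩ := exists_overlap hc MA MB wA wB hwA hwB
  haveI := hF₁
  haveI := hF₂
  have hp : F₁.o ≫ PA.p = F₂.o ≫ PB.p := by rw [F₁.w_p, F₂.w_p]
  obtain ⟨P, i₁, i₂, p, hi₁, hi₂, hij, hp₁, hp₂, hcov, hmeet⟩ :=
    exists_glue_open F₁.o F₂.o PA.p PB.p hp
  haveI := PA.compactSpace
  haveI := PB.compactSpace
  haveI := PA.quasiSeparatedSpace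
  haveI := PB.quasiSeparatedSpace
  haveI := O.compactSpace
  obtain ⟨hqc, hqs⟩ := quasiCompact_glued p i₁ i₂ F₁.o F₂.o hij hcov hmeet
  haveI : LocallyOfFinitePresentation p := by
    let U : ULift.{u} Bool → P.Opens := fun b => if b.down then i₁.opensRange else i₂.opensRange
    refine IsZariskiLocalAtSource.of_iSup_eq_top (P := @LocallyOfFinitePresentation) U ?_ fun b => ?_
    · refine top_le_iff.1 fun x _ => ?_
      rcases hcov x with h | h
      · exact Opens.mem_iSup.2 ⟨⟨true⟩, h⟩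
      · exact Opens.mem_iSup.2 ⟨⟨false⟩, h⟩
    · rcases b with ⟨_ | _⟩
      · show LocallyOfFinitePresentation (i₂.opensRange.ι ≫ p)
        rw [← i₂.isoOpensRange_inv_comp, Category.assoc, hp₂]
        exact inferInstance
      · show LocallyOfFinitePresentation (i₁.opensRange.ι ≫ p)
        rw [← i₁.isoOpensRange_inv_comp, Category.assoc, hp₁]
        exact inferInstance
  obtain ⟨g, hgA, hgB⟩ := H17.exists_glue_two A B (PA.g ≫ i₁) (PB.g ≫ i₂) (by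
    show wA ≫ PA.g ≫ i₁ = wB ≫ PB.g ≫ i₂
    rw [← reassoc_of% F₁.w_g, hij]
    simp only [← Category.assoc, F₂.w_g])
  refine ⟨l, ⟨⟨P, p, inferInstance, hqc, hqs, g, ?_⟩⟩⟩
  have hjA : IsPullback O.g wA F₁.o PA.g :=
    IsPullback.of_bot (by rw [F₁.w_p, hwA]; exact O.hpb) F₁.w_g PA.hpb
  have hjB : IsPullback O.g wB F₂.o PB.g :=
    IsPullback.of_bot (by rw [F₂.w_p, hwB]; exact O.hpb) F₂.w_g PB.hpb
  exact glued_isPullback (X.homOfLE le_sup_left) (X.homOfLE le_sup_right) (fun x => by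
      rcases x.2 with hx | hx
      · exact Or.inl ⟨⟨x.1, hx⟩, Subtype.ext (Scheme.homOfLE_apply _ _)⟩
      · exact Or.inr ⟨⟨x.1, hx⟩, Subtype.ext (Scheme.homOfLE_apply _ _)⟩)
    wA wB (by simp [wA, wB]) i₁ i₂ hcov hmeet hjA hjB
    (by rw [hp₁, Scheme.homOfLE_ι_assoc]; exact PA.hpb) (by rw [hp₂, Scheme.homOfLE_ι_assoc]; exact PB.hpb)
    g hgA hgB

end Groth.Agent.H7Lim.FPDescent
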